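import Groth.Agent.Lib.LocalCoh.LocDepth
import Groth.Agent.Lib.StalkLoc.Basic
import Groth.Prelude.Def_Coh

/-!
# Depth of the localisations of the stalks of a quasi-coherent module
-/

set_option autoImplicit false
universe u

open CategoryTheory AlgebraicGeometry Opposite TopologicalSpace

namespace Groth.Agent.Lib.ExtShDepth

open Groth.Agent.Lib Groth.Agent.Lib.StalkLoc.Basic

/-- The depth does not depend on the models of the localisations. -/
theorem depth_localization_eq {R : Type u} [CommRing R] {M : Type u} [AddCommGroup M] [Module R M]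
    (p : Ideal R) [p.IsPrime] (A : Type u) [CommRing A] [IsLocalRing A] [Algebra R A]
    [IsLocalization.AtPrime A p] (N : Type u) [AddCommGroup N] [Module R N] [Module A N]
    [IsScalarTower R A N] (g : M →ₗ[R] N) [IsLocalizedModule p.primeCompl g] :
    LocCoh.depth A N = LocCoh.depth (Localization.AtPrime p) (LocalizedModule p.primeCompl M) := by
  let Rp := Localization.AtPrime p
  let φ : Rp ≃ₐ[R] A := IsLocalization.algEquiv p.primeCompl Rp A
  let : Algebra Rp A := φ.toRingEquiv.toRingHom.toAlgebra
  have : IsScalarTower R Rp A := IsScalarTower.of_algebraMap_eq fun x => (φ.commutes x).symm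
  let : Module Rp N := Module.compHom N (algebraMap Rp A)
  have : IsScalarTower Rp A N := IsScalarTower.of_algebraMap_smul fun _ _ => rfl
  have : IsScalarTower R Rp N := IsScalarTower.of_algebraMap_smul fun r x => by
    show algebraMap Rp A (algebraMap R Rp r) • x = r • x
    rw [← IsScalarTower.algebraMap_apply, algebraMap_smul]
  have e : LocalizedModule p.primeCompl M ≃ₗ[Rp] N :=
    (IsLocalizedModule.linearEquiv p.primeCompl (LocalizedModule.mkLinearMap _ M) g).extendScalarsOfIsLocalization
      p.primeCompl Rp
  exact ((Depth.Basic.depth_congr e).trans (Depth.Basic.depth_eq_of_surjective φ.surjective)).symm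

/-- Localising a stalk gives the depth at the generalisation. -/
theorem depth_localization_stalk {X : Scheme.{u}} (F : X.Modules) [F.IsQuasicoherent] (x : X)
    (q : PrimeSpectrum (X.presheaf.stalk x)) :
    LocCoh.depth (Localization.AtPrime q.asIdeal) (LocalizedModule q.asIdeal.primeCompl (F.presheaf.stalk x)) =
      LocCoh.depth (X.presheaf.stalk (X.fromSpecStalk x q)) (F.presheaf.stalk (X.fromSpecStalk x q)) := by
  obtain ⟨U, hU, hx, -⟩ := exists_isAffineOpen_mem_and_subset (x := x) (U := ⊤) trivial
  let _ := moduleSections F hx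
  let _ := TopCat.Presheaf.algebra_section_stalk X.presheaf (⟨x, hx⟩ : U)
  have := isScalarTower_sections F hx
  have := hU.isLocalization_stalk ⟨x, hx⟩
  have := isLocalizedModule_germ (M := F) hU hx
  let y := X.fromSpecStalk x q
  have he : y = hU.fromSpec (Spec.map (X.presheaf.germ U x hx) q) := by
    show X.fromSpecStalk x q = _
    rw [← hU.fromSpecStalk_eq_fromSpecStalk hx]
    rfl
  have hy : y ∈ U := by rw [he, ← SetLike.mem_coe, ← hU.range_fromSpec]; exact ⟨_, rfl⟩
  have hP : (hU.primeIdealOf ⟨y, hy⟩).asIdeal = q.asIdeal.comap (algebraMap Γ(X, U) (X.presheaf.stalk x)) :=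
    congrArg PrimeSpectrum.asIdeal
      (hU.fromSpec.isOpenEmbedding.injective ((hU.fromSpec_primeIdealOf ⟨y, hy⟩).trans he))
  let P := q.asIdeal.comap (algebraMap Γ(X, U) (X.presheaf.stalk x))
  refine Eq.trans ?_ (Eq.symm ?_) (b := LocCoh.depth (Localization.AtPrime P) (LocalizedModule P.primeCompl Γ(F, U)))
  · let AP := Localization.AtPrime q.asIdeal
    let N := LocalizedModule q.asIdeal.primeCompl (F.presheaf.stalk x)
    have : IsLocalization P.primeCompl AP :=
      IsLocalization.isLocalization_isLocalization_atPrime_isLocalization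
        (hU.primeIdealOf ⟨x, hx⟩).asIdeal.primeCompl AP q.asIdeal
    let g : Γ(F, U) →ₗ[Γ(X, U)] N :=
      ((LocalizedModule.mkLinearMap q.asIdeal.primeCompl (F.presheaf.stalk x)).restrictScalars Γ(X, U))
        ∘ₗ germₗ F hx
    have : IsLocalizedModule P.primeCompl g := by
      rw [isLocalizedModule_iff_isBaseChange P.primeCompl AP]
      exact IsBaseChange.comp
        (IsLocalizedModule.isBaseChange (hU.primeIdealOf ⟨x, hx⟩).asIdeal.primeCompl (X.presheaf.stalk x) _)
        (IsLocalizedModule.isBaseChange q.asIdeal.primeCompl AP _)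
    exact depth_localization_eq P AP N g
  · let _ := moduleSections F hy
    let _ := TopCat.Presheaf.algebra_section_stalk X.presheaf (⟨y, hy⟩ : U)
    have := isScalarTower_sections F hy
    have h1 := hU.isLocalization_stalk ⟨y, hy⟩
    have h2 := isLocalizedModule_germ (M := F) hU hy
    simp only [hP] at h1 h2
    exact depth_localization_eq P (X.presheaf.stalk y) (F.presheaf.stalk y) (germₗ F hy)

end Groth.Agent.Lib.ExtShDepth
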