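import Groth.Agent.Lib.ExtShDepth.Stalk
import Groth.Agent.Lib.Depth.Local
import Groth.Agent.Lib.Depth.Ext
import Groth.Agent.Lib.ExtShStalk.Cor
import Groth.Agent.Lib.InjMod.Stalk
import Groth.Agent.Lib.RefHull.LocFree
import Groth.Agent.Lib.RefHull.Reflexive
import Groth.Agent.Lib.Cyc.Dev.SchemeEquiv
import Groth.Agent.Lib.Cyc.SheafLen
import Groth.Agent.Lib.PushClosed.Unit
import Mathlib.AlgebraicGeometry.IdealSheaf.Subscheme

/-!
# Depth and the vanishing of Ext sheaves
-/

set_option autoImplicit false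
universe u

open CategoryTheory CategoryTheory.Limits AlgebraicGeometry Opposite TopologicalSpace

namespace Groth.Agent.Lib.ExtShDepth

open Groth.Agent.Lib

variable {X : Scheme.{u}} [IsLocallyNoetherian X]

/-- Localisations of the stalk of a module vanish at generalisations outside the support. -/
theorem notMem_support_stalk {G : X.Modules} (hG : Coh.IsCoh G) (x : X)
    (q : PrimeSpectrum (X.presheaf.stalk x))
    (h : Subsingleton (G.presheaf.stalk (X.fromSpecStalk x q))) :
    q ∉ Module.support (X.presheaf.stalk x) (G.presheaf.stalk x) := by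
  intro hq
  haveI : G.IsQuasicoherent := hG.1
  haveI : Nontrivial (LocalizedModule q.asIdeal.primeCompl (G.presheaf.stalk x)) := hq
  haveI : Module.Finite (X.presheaf.stalk x) (G.presheaf.stalk x) := RefHull.LocFree.finite_stalk hG x
  haveI : Module.Finite (Localization.AtPrime q.asIdeal)
      (LocalizedModule q.asIdeal.primeCompl (G.presheaf.stalk x)) :=
    Module.Finite.of_isLocalizedModule q.asIdeal.primeCompl
      (LocalizedModule.mkLinearMap q.asIdeal.primeCompl (G.presheaf.stalk x))
  have h1 := depth_localization_stalk G x q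
  have h2 : LocCoh.depth (X.presheaf.stalk (X.fromSpecStalk x q)) (G.presheaf.stalk (X.fromSpecStalk x q)) = ⊤ :=
    Depth.Basic.idealDepth_subsingleton
  exact Depth.Assoc.depth_ne_top _ (h1.trans h2)

/-- Ext groups of stalks vanish below the depth along the support. -/
theorem subsingleton_ext_stalk {F G : X.Modules} (hF : Coh.IsCoh F) (hG : Coh.IsCoh G) (x : X) {n : ℕ}
    (h : ∀ y : X, y ⤳ x → y ∈ CohB1.support G →
      (n : ℕ∞) ≤ LocCoh.depth (X.presheaf.stalk y) (F.presheaf.stalk y))
    {i : ℕ} (hi : i < n) :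
    Subsingleton (Abelian.Ext.{u} (ModuleCat.of (X.presheaf.stalk x) (G.presheaf.stalk x))
      (ModuleCat.of (X.presheaf.stalk x) (F.presheaf.stalk x)) i) := by
  haveI : F.IsQuasicoherent := hF.1
  haveI : Module.Finite (X.presheaf.stalk x) (F.presheaf.stalk x) := RefHull.LocFree.finite_stalk hF x
  haveI : Module.Finite (X.presheaf.stalk x) (G.presheaf.stalk x) := RefHull.LocFree.finite_stalk hG x
  refine (Depth.Ext.le_idealDepth_iff_forall_ext
    (Module.annihilator (X.presheaf.stalk x) (G.presheaf.stalk x)) (F.presheaf.stalk x) n).1 ?_ _ ?_ i hi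
  · rw [Depth.Local.idealDepth_eq_iInf]
    refine le_iInf₂ fun q hq => ?_
    rw [depth_localization_stalk]
    refine h _ ((Scheme.range_fromSpecStalk (X := X) (x := x)).le ⟨q, rfl⟩) fun hsub => ?_
    refine notMem_support_stalk hG x q hsub ?_
    rw [Module.support_eq_zeroLocus]
    exact hq
  · exact (Module.support_eq_zeroLocus).subset

/-- Depth at a point of the support from the vanishing of Ext groups of stalks. -/
theorem le_depth_of_subsingleton_ext {F G : X.Modules} (hF : Coh.IsCoh F) (hG : Coh.IsCoh G) {x : X}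
    (hx : x ∈ CohB1.support G) {n : ℕ}
    (h : ∀ i < n, Subsingleton (Abelian.Ext.{u} (ModuleCat.of (X.presheaf.stalk x) (G.presheaf.stalk x))
      (ModuleCat.of (X.presheaf.stalk x) (F.presheaf.stalk x)) i)) :
    (n : ℕ∞) ≤ LocCoh.depth (X.presheaf.stalk x) (F.presheaf.stalk x) := by
  haveI : Module.Finite (X.presheaf.stalk x) (F.presheaf.stalk x) := RefHull.LocFree.finite_stalk hF x
  haveI : Module.Finite (X.presheaf.stalk x) (G.presheaf.stalk x) := RefHull.LocFree.finite_stalk hG x
  haveI : Nontrivial (G.presheaf.stalk x) := not_subsingleton_iff_nontrivial.1 hx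
  rcases subsingleton_or_nontrivial (F.presheaf.stalk x) with hs | hs
  · rw [LocCoh.depth, Depth.Basic.idealDepth_subsingleton]
    exact le_top
  have hle : Module.annihilator (X.presheaf.stalk x) (G.presheaf.stalk x) ≤
      IsLocalRing.maximalIdeal (X.presheaf.stalk x) := IsLocalRing.le_maximalIdeal fun htop => by
    obtain ⟨a, ha⟩ := exists_ne (0 : G.presheaf.stalk x)
    exact ha (by
      rw [← one_smul (X.presheaf.stalk x) a]
      exact Module.mem_annihilator.1 (htop ▸ Submodule.mem_top) a)
  refine ((Depth.Ext.le_idealDepth_iff_ext _ _ (ModuleCat.of _ (G.presheaf.stalk x))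
    Module.support_eq_zeroLocus n).2 h).trans (Depth.Basic.idealDepth_mono hle ?_)
  exact Depth.Basic.smul_top_ne_top (IsLocalRing.maximalIdeal.isMaximal _).ne_top

/-- A closed set is the support of a coherent module. -/
theorem exists_coh_support_eq (U : X.Opens) :
    ∃ G : X.Modules, Coh.IsCoh G ∧ CohB1.support G = (U : Set X)ᶜ := by
  let Z : Closeds X := ⟨(U : Set X)ᶜ, U.2.isClosed_compl⟩
  let ι := (Scheme.IdealSheafData.vanishingIdeal Z).subschemeι
  have hrange : Set.range ι = (U : Set X)ᶜ := by
    rw [Scheme.IdealSheafData.range_subschemeι]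
    rfl
  haveI : IsLocallyNoetherian (Scheme.IdealSheafData.vanishingIdeal Z).subscheme :=
    LocallyOfFiniteType.isLocallyNoetherian ι
  refine ⟨(Scheme.Modules.pushforward ι).obj (Coh.structureModule _),
    Cyc.Dev.SchemeEquiv.isCoh_push ι RefHull.Reflexive.isCoh_structure, ?_⟩
  ext x
  rw [← hrange]
  constructor
  · intro hx
    by_contra hn
    exact hx (PushClosed.Unit.subsingleton_stalk_push ι _ hn)
  · rintro ⟨z, rfl⟩ hsub
    obtain ⟨e⟩ := Cyc.SheafLen.exists_unit_stalk_equiv z
    have h1 := PushClosed.Unit.bijective_pushStalkMap ι (Coh.structureModule _) z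
    haveI : Subsingleton ((Coh.structureModule (Scheme.IdealSheafData.vanishingIdeal Z).subscheme).presheaf.stalk z) :=
      ⟨fun a b => by
        obtain ⟨a, rfl⟩ := h1.2 a
        obtain ⟨b, rfl⟩ := h1.2 b
        rw [hsub.elim a b]⟩
    exact not_subsingleton ((Scheme.IdealSheafData.vanishingIdeal Z).subscheme.presheaf.stalk z)
      e.symm.toEquiv.subsingleton

variable (U : X.Opens) (F : X.Modules) (n : ℕ) [HasInjectiveResolutions (ModSite.Mod X.sheaf)]

omit [HasInjectiveResolutions (ModSite.Mod X.sheaf)] in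
theorem injStalk (x : X) : ExtShStalk.Cor.InjStalk (X := X) x :=
  fun _ hI => InjMod.injective_stalk hI x

/-- The depth criterion, from one module. -/
theorem le_depth_of_isZero_extSh (hF : Coh.IsCoh F) (G : X.Modules) (hG : Coh.IsCoh G)
    [ModSite.HasSheafHom (O := X.sheaf) G]
    (hz : ∀ i : ℕ, i < n → IsZero ((ModSite.extSh (O := X.sheaf) G i).obj F)) {x : X}
    (hx : x ∈ CohB1.support G) : (n : ℕ∞) ≤ LocCoh.depth (X.presheaf.stalk x) (F.presheaf.stalk x) :=
  le_depth_of_subsingleton_ext hF hG hx fun i hi =>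
    (ExtShStalk.Cor.isZero_iff G hG injStalk F i).1 (hz i hi) x

/-- The depth criterion. -/
theorem depth_iff_isZero_extSh (hF : Coh.IsCoh F) [∀ M : X.Modules, ModSite.HasSheafHom (O := X.sheaf) M] :
    (∀ x : X, x ∉ (U : Set X) → (n : ℕ∞) ≤ LocCoh.depth (X.presheaf.stalk x) (F.presheaf.stalk x)) ↔
      ∀ G : X.Modules, Coh.IsCoh G → (∀ x ∈ CohB1.support G, x ∉ (U : Set X)) →
        ∀ i : ℕ, i < n → IsZero ((ModSite.extSh (O := X.sheaf) G i).obj F) := by
  constructor
  · intro h G hG hsupp i hi
    exact (ExtShStalk.Cor.isZero_iff G hG injStalk F i).2 fun x =>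
      subsingleton_ext_stalk hF hG x (fun y _ hy => h y (hsupp y hy)) hi
  · intro h x hx
    obtain ⟨G, hG, hsupp⟩ := exists_coh_support_eq U
    exact le_depth_of_isZero_extSh F n hF G hG (fun i hi => h G hG (fun y hy => hsupp.subset hy) i hi)
      (hsupp.symm.subset hx)

end Groth.Agent.Lib.ExtShDepth
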